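/-
Elements of odd prime order without conjugates in a subfield subgroup.
-/
import Cfsg.Agent.Lib.MaxSub.ElusiveSubfield
import Cfsg.Agent.Lib.OrthSLElusive.Negative
import Cfsg.Agent.Lib.UnitSLElusive.Negative
import Cfsg.Agent.Lib.PrimeIso.Rev

set_option autoImplicit false
set_option linter.unusedSectionVars false

namespace CfsgLib.SubfieldElusive

open Polynomial Matrix Module

universe u

variable {F : Type u} [Field F] [Fintype F] {n : ℕ} {p r : ℕ} [Fact p.Prime] [CharP F p] [Fact r.Prime]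

local notation "Mn" => Matrix (Fin n) (Fin n) F
local notation "SLn" => Matrix.SpecialLinearGroup (Fin n) F

/-- The subfield subgroup inside the special linear group. -/
def Hsub (F₀ : Subfield F) : Subgroup (Matrix.SpecialLinearGroup (Fin n) F) :=
  (Cfsg.Geo.subfieldSubgroup F₀ 1).comap
    (Matrix.SpecialLinearGroup.toGL : Matrix.SpecialLinearGroup (Fin n) F →* GL (Fin n) F)

/-- An element without conjugates over the subfield. -/
def SubBad (F₀ : Subfield F) (n r : ℕ) : Prop :=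
  ∃ x : Matrix.SpecialLinearGroup (Fin n) F,
    (∃ z : F, ((x ^ r : Matrix.SpecialLinearGroup (Fin n) F) : Matrix (Fin n) (Fin n) F) = z • 1) ∧
    (∀ z : F, (x : Matrix (Fin n) (Fin n) F) ≠ z • 1) ∧
    ∀ P : Matrix.SpecialLinearGroup (Fin n) F, P⁻¹ * x * P ∉ Hsub F₀

include p in
/-- The subfield is the fixed field of the Frobenius power. -/
theorem exists_sigma (F₀ : Subfield F) {q₀ k : ℕ} (hF₀ : Nat.card ↥F₀ = q₀) (hk : k ≠ 0)
    (hq : Fintype.card F = q₀ ^ k) :
    ∃ σ : F →+* F, (∀ a, σ a = a ^ q₀) ∧ (∃ a₀, q₀ = p ^ a₀) ∧ ∀ a, a ∈ F₀ ↔ σ a = a := by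
  classical
  obtain ⟨d, hp, hd⟩ := FiniteField.card F p
  obtain ⟨a₀, -, ha₀⟩ := (Nat.dvd_prime_pow hp).mp (show q₀ ∣ p ^ (d : ℕ) from hd ▸ hq ▸ dvd_pow_self q₀ hk)
  refine ⟨iterateFrobenius F p a₀, fun a => by rw [ha₀]; exact iterateFrobenius_def p a₀ a, ⟨a₀, ha₀⟩, fun a => ?_⟩
  rw [iterateFrobenius_def, ← ha₀]
  have : Fintype F₀ := Fintype.ofFinite _
  rw [Nat.card_eq_fintype_card] at hF₀
  refine ⟨fun h => ?_, fun h => ?_⟩
  · have h1 := congrArg Subtype.val (FiniteField.pow_card (⟨a, h⟩ : F₀))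
    rw [SubmonoidClass.coe_pow, hF₀] at h1
    exact h1
  · have hq1 : 1 < q₀ := hF₀ ▸ Fintype.one_lt_card
    set S := (X ^ q₀ - X : F[X]).roots.toFinset
    have hS : ∀ b : F, b ^ q₀ = b → b ∈ S := fun b hb => by
      rw [Multiset.mem_toFinset, mem_roots (FiniteField.X_pow_card_sub_X_ne_zero F hq1)]
      simp [hb]
    set S₀ : Finset F := Finset.univ.image (Subtype.val : F₀ → F)
    have hsub : S₀ ⊆ S := fun b hb => by
      obtain ⟨c, -, rfl⟩ := Finset.mem_image.mp hb
      have h1 := congrArg Subtype.val (FiniteField.pow_card c)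
      rw [SubmonoidClass.coe_pow, hF₀] at h1
      exact hS _ h1
    have hle : S.card ≤ q₀ := (Multiset.toFinset_card_le _).trans ((card_roots' _).trans
      (by rw [FiniteField.X_pow_card_sub_X_natDegree_eq F hq1]))
    have h0 : S₀.card = q₀ := by
      rw [Finset.card_image_of_injective _ Subtype.val_injective, Finset.card_univ, hF₀]
    have heq := Finset.eq_of_subset_of_card_le hsub (by omega)
    obtain ⟨c, -, hc⟩ := Finset.mem_image.mp (heq ▸ hS a h)
    exact hc ▸ c.2

theorem map_smul' (σ : F →+* F) (c : F) (A : Mn) : (c • A).map σ = σ c • A.map σ := by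
  ext i j; simp

theorem map_det' (σ : F →+* F) (A : Mn) : (A.map σ).det = σ A.det := by
  rw [RingHom.map_det]; rfl

/-- A matrix not similar to a multiple of its twist gives a bad element. -/
theorem bad_of (F₀ : Subfield F) {σ : F →+* F} (hfix : ∀ a, a ∈ F₀ ↔ σ a = a) (hn : 0 < n) (M : Mn)
    (hdet : M.det = 1) {z : F} (hpow : M ^ r = z • 1)
    (hkey : ∀ (P : Mn) (δ : F), P.det ≠ 0 → δ ≠ 0 → σ z = δ ^ r * z → M.map σ * P ≠ δ • (P * M)) : SubBad F₀ n r := by
  have : Nonempty (Fin n) := ⟨⟨0, hn⟩⟩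
  have hz0 : z ≠ 0 := fun h => by
    have h1 := congrArg Matrix.det hpow
    rw [det_pow, hdet, h, zero_smul, det_zero, one_pow] at h1
    exact one_ne_zero h1
  let x : SLn := ⟨M, hdet⟩
  refine ⟨x, ⟨z, (Matrix.SpecialLinearGroup.coe_pow x r).trans hpow⟩, fun w hw => ?_, fun P hmem => ?_⟩
  · have hw' : M = w • 1 := hw
    have hw0 : w ≠ 0 := fun h => by
      rw [hw', h, zero_smul, det_zero] at hdet
      exact zero_ne_one hdet
    have hzw : z = w ^ r := by
      rw [hw', _root_.smul_pow, one_pow] at hpow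
      exact (smul_left_injective F (one_ne_zero (α := Mn)) hpow).symm
    refine hkey 1 (σ w / w) (by rw [det_one]; exact one_ne_zero) (div_ne_zero ((map_ne_zero σ).mpr hw0) hw0) ?_ ?_
    · rw [hzw, map_pow, div_pow, div_mul_cancel₀ _ (pow_ne_zero _ hw0)]
    · rw [hw', map_smul', Matrix.map_one σ (map_zero σ) (map_one σ), mul_one, one_mul, smul_smul, div_mul_cancel₀ _ hw0]
  obtain ⟨c, y, hc, hy, hg⟩ := (CfsgLib.MaxSub.Elusive.mem_subfield_one_iff F₀ _).mp hmem
  set g : Mn := (P : Mn)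
  set gi : Mn := ((P⁻¹ : SLn) : Mn)
  change gi * M * g = c • y at hg
  have hgg : g * gi = 1 := by rw [← Matrix.SpecialLinearGroup.coe_mul, mul_inv_cancel, Matrix.SpecialLinearGroup.coe_one]
  have hyσ : y.map σ = y := Matrix.ext fun i j => (hfix _).mp (hy i j)
  set δ := σ c / c
  have hδ : δ ≠ 0 := div_ne_zero ((map_ne_zero σ).mpr hc) hc
  set Q : Mn := g.map σ * gi
  have hQ : M.map σ * Q = δ • (Q * M) := by
    have h1 : M * g = c • (g * y) := by rw [← Matrix.mul_smul, ← hg, ← mul_assoc, ← mul_assoc, hgg, one_mul]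
    have h2 := congrArg (fun A : Mn => A.map σ) h1
    simp only [Matrix.map_mul, map_smul', hyσ] at h2
    have h3 : gi * M = c • (y * gi) := by rw [← Matrix.smul_mul, ← hg, mul_assoc _ g, hgg, mul_one]
    rw [← mul_assoc, h2, mul_assoc (g.map σ), h3, Matrix.mul_smul, smul_smul, Matrix.smul_mul, div_mul_cancel₀ _ hc,
      mul_assoc]
  have hQ0 : Q.det ≠ 0 := by
    rw [det_mul, map_det', show g.det = 1 from P.2, show gi.det = 1 from (P⁻¹).2, map_one, one_mul]
    exact one_ne_zero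
  refine hkey Q δ hQ0 hδ ?_ hQ
  have h4 : ∀ e : ℕ, (M.map σ) ^ e * Q = δ ^ e • (Q * M ^ e) := fun e => by
    induction e with
    | zero => simp
    | succ e ih =>
      rw [pow_succ, mul_assoc, hQ, Matrix.mul_smul, ← mul_assoc, ih, Matrix.smul_mul, smul_smul, pow_succ' δ,
        mul_assoc Q, ← pow_succ]
  have h5 := h4 r
  rw [← RingHom.mapMatrix_apply, ← map_pow, hpow, RingHom.mapMatrix_apply, map_smul', Matrix.map_one σ (map_zero σ) (map_one σ),
    Matrix.mul_smul, mul_one, Matrix.smul_mul, one_mul, smul_smul] at h5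
  exact smul_left_injective F (fun h0 => hQ0 (by rw [h0, det_zero])) h5

theorem lift_val {Q k : ℕ} (hk : k.Prime) (hrk : r ≠ k) (hQ : 1 < Q) (hd : r ∣ Q - 1) :
    (Q ^ k - 1).factorization r = (Q - 1).factorization r := by
  have hr : r.Prime := Fact.out
  set S := ∑ i ∈ Finset.range k, Q ^ i
  have h : Q ^ k - 1 = S * (Q - 1) := by
    have := Nat.geomSum_eq hQ k
    rw [show S = _ from this, Nat.div_mul_cancel (Nat.sub_one_dvd_pow_sub_one Q k)]
  have hS : ¬ r ∣ S := fun hS => by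
    have h1 : (Q : ZMod r) = 1 := by
      have := (ZMod.natCast_eq_zero_iff _ r).mpr hd
      rwa [Nat.cast_sub (by omega), Nat.cast_one, sub_eq_zero] at this
    have h2 := (ZMod.natCast_eq_zero_iff _ r).mpr hS
    simp only [S, Nat.cast_sum, Nat.cast_pow, h1, one_pow, Finset.sum_const, Finset.card_range, nsmul_one] at h2
    exact hrk ((Nat.prime_dvd_prime_iff_eq hr hk).mp ((ZMod.natCast_eq_zero_iff k r).mp h2))
  rw [h, Nat.factorization_mul (fun h0 => hS (by rw [h0]; exact dvd_zero r)) (by omega), Finsupp.add_apply,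
    Nat.factorization_eq_zero_of_not_dvd hS, zero_add]

/-- What a prime dividing the index says about `q₀`. -/
theorem order_facts (F₀ : Subfield F) {q₀ k : ℕ} (hF₀ : Nat.card ↥F₀ = q₀) (hk : k.Prime)
    (hq : Fintype.card F = q₀ ^ k) (hn : 1 ≤ n) (hrk : r ≠ k)
    (hnd' : ¬ r ∣ Fintype.card F) (hΩ : r ∣ (Hsub (n := n) F₀).index) :
    ∃ j, 2 ≤ j ∧ j ≤ n ∧ (Fintype.card F : ZMod r) ^ j = 1 ∧ (q₀ : ZMod r) ^ j ≠ 1 := by
  classical
  have hr : r.Prime := Fact.out
  have : Fintype F₀ := Fintype.ofFinite _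
  have hq0 : Fintype.card F₀ = q₀ := by rw [← Nat.card_eq_fintype_card]; exact hF₀
  have hSL : ∀ (K : Type u) [Field K] [Fintype K], ¬ r ∣ Fintype.card K →
      (Fintype.card K - 1).factorization r + (Nat.card (Matrix.SpecialLinearGroup (Fin n) K)).factorization r =
        ∑ i ∈ Finset.range n, (Fintype.card K ^ (i + 1) - 1).factorization r := by
    intro K _ _ hK
    have hK1 := Fintype.one_lt_card (α := K)
    have h := CfsgLib.SLCard.card_units_mul_card_SL (F := K) hn
    rw [Matrix.card_GL_field] at h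
    have hne : ∀ i, 1 ≤ i → Fintype.card K ^ i - 1 ≠ 0 := fun i hi =>
      (Nat.sub_pos_of_lt (Nat.one_lt_pow (by omega) hK1)).ne'
    have h' := congrArg (fun m : ℕ => m.factorization r) h
    simp only [Nat.factorization_mul (by omega : Fintype.card K - 1 ≠ 0) Nat.card_pos.ne', Finsupp.add_apply] at h'
    rw [h', Nat.factorization_prod_apply fun (j : Fin n) _ => (Nat.sub_pos_of_lt (Nat.pow_lt_pow_right hK1 j.2)).ne',
      Fin.sum_univ_eq_sum_range (fun j => (Fintype.card K ^ n - Fintype.card K ^ j).factorization r),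
      ← Finset.sum_range_reflect]
    refine Finset.sum_congr rfl fun i hi => ?_
    have hin := Finset.mem_range.mp hi
    rw [CfsgLib.MaxSub.Elusive.q_pow_factor (Nat.sub_le _ _ |>.trans (Nat.sub_le _ _)),
      Nat.factorization_mul (pow_ne_zero _ (by omega)) (hne _ (by omega)), Finsupp.add_apply, Nat.factorization_pow,
      Finsupp.smul_apply, Nat.factorization_eq_zero_of_not_dvd hK, smul_zero, zero_add,
      show n - (n - 1 - i) = i + 1 by omega]
  set H := Hsub (n := n) F₀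
  let ι : Matrix.SpecialLinearGroup (Fin n) F₀ →* SLn := Matrix.SpecialLinearGroup.map F₀.subtype
  have hle : ι.range ≤ H := by
    rintro _ ⟨y, rfl⟩
    exact (CfsgLib.MaxSub.Elusive.mem_subfield_one_iff F₀ _).mpr ⟨1, (y : Matrix (Fin n) (Fin n) F₀).map F₀.subtype, one_ne_zero,
      fun i j => ((y : Matrix (Fin n) (Fin n) F₀) i j).2, by rw [one_smul]; rfl⟩
  have hinj : Function.Injective ι := fun a b h => Subtype.ext (Matrix.map_injective Subtype.val_injective (congrArg Subtype.val h))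
  have hd : Nat.card (Matrix.SpecialLinearGroup (Fin n) F₀) * H.index ∣ Nat.card SLn := by
    rw [← H.card_mul_index, Nat.card_congr (MonoidHom.ofInjective hinj).toEquiv]
    exact mul_dvd_mul_right (Subgroup.card_dvd_of_le hle) _
  have hv := (Nat.factorization_le_iff_dvd (mul_ne_zero Nat.card_pos.ne' Subgroup.index_ne_zero_of_finite)
    Nat.card_pos.ne').mpr hd r
  rw [Nat.factorization_mul Nat.card_pos.ne' Subgroup.index_ne_zero_of_finite, Finsupp.add_apply] at hv
  have hpos : 0 < H.index.factorization r := hr.factorization_pos_of_dvd Subgroup.index_ne_zero_of_finite hΩ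
  have hq01 : 1 < q₀ := hq0 ▸ Fintype.one_lt_card
  have hnd : ¬ r ∣ q₀ := fun h => hnd' (hq ▸ dvd_pow h hk.ne_zero)
  have hF := hSL F hnd'
  have hF0 := hSL F₀ (hq0 ▸ hnd)
  rw [hq0] at hF0
  obtain ⟨n', rfl⟩ : ∃ n', n = n' + 1 := ⟨n - 1, by omega⟩
  rw [Finset.sum_range_succ', zero_add, pow_one] at hF hF0
  obtain ⟨j, hj, hlt⟩ := Finset.exists_lt_of_sum_lt (show ∑ i ∈ Finset.range n', (q₀ ^ (i + 1 + 1) - 1).factorization r <
    ∑ i ∈ Finset.range n', (Fintype.card F ^ (i + 1 + 1) - 1).factorization r by omega)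
  refine ⟨j + 1 + 1, by omega, by have := Finset.mem_range.mp hj; omega, ?_, fun h0 => ?_⟩
  · exact orderOf_dvd_iff_pow_eq_one.mp ((CfsgLib.PrimeIso.dvd_pow_sub_one_iff (F := F) (r := r) _).mp
      (Nat.dvd_of_factorization_pos (by omega)))
  · have hd : r ∣ q₀ ^ (j + 1 + 1) - 1 := by
      rw [← ZMod.natCast_eq_zero_iff, Nat.cast_sub (Nat.one_le_pow _ _ (by omega)), Nat.cast_pow, h0, Nat.cast_one, sub_self]
    have h1 := lift_val hk hrk (Nat.one_lt_pow (by omega) hq01) hd
    rw [← pow_mul, mul_comm, pow_mul, ← hq] at h1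
    omega

/-- Two orbits of eigenvalues in a minimal polynomial of small degree. -/
theorem two_orbits_absurd (hrp : r ≠ p) (M : Mn) (hpow : M ^ r = 1) (hns : ∀ c : F, M ≠ c • 1) {P0 : F[X]} (hP0 : P0 ≠ 0)
    (hdeg : P0.natDegree ≤ orderOf (Fintype.card F : ZMod r) + 1) (hann : aeval M P0 = 0)
    (hi : 2 ≤ orderOf (Fintype.card F : ZMod r)) {a : ℕ}
    (ha0 : (a : ZMod r) ≠ 0) (hout : ∀ l m : ℕ, (a : ZMod r) * (Fintype.card F : ZMod r) ^ l ≠ (Fintype.card F : ZMod r) ^ m)
    (hroot : ∀ ω : AlgebraicClosure F, ω ^ r = 1 → aeval ω (minpoly F M) = 0 → aeval (ω ^ a) (minpoly F M) = 0) : False := by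
  classical
  have hrP : r.Prime := Fact.out
  set q := Fintype.card F with hq
  set i := orderOf (q : ZMod r) with hidef
  have : Nontrivial Mn := ⟨⟨M, 1, fun h => hns 1 (h.trans (one_smul F 1).symm)⟩⟩
  set P := minpoly F M with hP
  have hMint : IsIntegral F M := Algebra.IsIntegral.isIntegral M
  let L := AlgebraicClosure F
  have : CharP L p := charP_of_injective_algebraMap (algebraMap F L).injective p
  have hsepX : (X ^ r - C (1 : F)).Separable := separable_X_pow_sub_C _ (fun h => hrp (((Nat.prime_dvd_prime_iff_eq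
    Fact.out hrP).mp ((CharP.cast_eq_zero_iff F p r).mp h)).symm)) one_ne_zero
  have hPX : P ∣ X ^ r - C 1 := minpoly.dvd F M (by rw [map_sub, map_pow, aeval_X, aeval_C, map_one, hpow, sub_self])
  have hcard : Fintype.card (P.rootSet L) = P.natDegree :=
    card_rootSet_eq_natDegree (hsepX.of_dvd hPX) (IsAlgClosed.splits _)
  have hPne : P ≠ 0 := minpoly.ne_zero hMint
  have hdeg2 : 2 ≤ P.natDegree := by
    by_contra hlt
    have h1 : P.natDegree = 1 := by have : 0 < P.natDegree := minpoly.natDegree_pos hMint; omega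
    have h2 := (minpoly.monic hMint).eq_X_add_C h1
    have h3 := minpoly.aeval F M
    rw [h2, map_add, aeval_X, aeval_C, Algebra.algebraMap_eq_smul_one, add_eq_zero_iff_eq_neg, ← neg_smul] at h3
    exact hns _ h3
  obtain ⟨ω, hω, hω1⟩ : ∃ ω : L, aeval ω P = 0 ∧ ω ≠ 1 := by
    by_contra hc'
    push Not at hc'
    have : Fintype.card (P.rootSet L) ≤ 1 := Fintype.card_le_one_iff.mpr fun a b => Subtype.ext
      ((hc' _ (mem_rootSet.mp a.2).2).trans (hc' _ (mem_rootSet.mp b.2).2).symm)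
    omega
  have hωr : ω ^ r = 1 := by
    obtain ⟨R, hR⟩ := hPX
    have := congrArg (aeval ω) hR
    rwa [map_mul, hω, zero_mul, map_sub, map_pow, aeval_X, aeval_C, map_one, sub_eq_zero] at this
  have hord : orderOf ω = r := orderOf_eq_prime hωr hω1
  have hstep : ∀ y : L, aeval y P = 0 → ∀ l : ℕ, aeval (y ^ q ^ l) P = 0 := fun y hy l => by
    induction l with
    | zero => rwa [pow_zero, pow_one]
    | succ l ih =>
      rw [pow_succ, pow_mul, ← expand_aeval, FiniteField.expand_card, map_pow, ih, zero_pow Fintype.card_ne_zero]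
  have hy := hroot ω hωr hω
  have hpeq : ∀ b c : ℕ, ω ^ b = ω ^ c ↔ (b : ZMod r) = (c : ZMod r) := fun b c => by
    rw [ZMod.natCast_eq_natCast_iff', pow_eq_pow_mod b hωr, pow_eq_pow_mod c hωr]
    exact ⟨fun h => (hord ▸ IsPrimitiveRoot.orderOf ω).pow_inj (Nat.mod_lt _ hrP.pos) (Nat.mod_lt _ hrP.pos) h,
      fun h => by rw [h]⟩
  have hinjq : ∀ l m : Fin i, (q : ZMod r) ^ (l : ℕ) = (q : ZMod r) ^ (m : ℕ) → l = m := fun l m h =>
    Fin.ext (pow_injOn_Iio_orderOf (Set.mem_Iio.mpr l.2) (Set.mem_Iio.mpr m.2) h)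
  let Φ : Fin i ⊕ Fin i → P.rootSet L := Sum.elim
    (fun l => ⟨ω ^ q ^ (l : ℕ), mem_rootSet.mpr ⟨hPne, hstep ω hω l⟩⟩)
    (fun l => ⟨(ω ^ a) ^ q ^ (l : ℕ), mem_rootSet.mpr ⟨hPne, hstep _ hy l⟩⟩)
  have hΦ : Function.Injective Φ := by
    rintro (l | l) (m | m) h <;> have h' := congrArg Subtype.val h <;>
      simp only [Φ, Sum.elim_inl, Sum.elim_inr, ← pow_mul, hpeq, Nat.cast_mul, Nat.cast_pow] at h'
    · exact congrArg Sum.inl (hinjq l m h')
    · exact absurd h'.symm (hout _ _)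
    · exact absurd h' (hout _ _)
    · exact congrArg Sum.inr (hinjq l m (mul_left_cancel₀ ha0 h'))
  have h1 := Fintype.card_le_of_injective Φ hΦ
  rw [Fintype.card_sum, Fintype.card_fin, hcard] at h1
  have h2 : P.natDegree ≤ P0.natDegree := natDegree_le_of_dvd (minpoly.dvd F M hann) hP0
  have h4 : P0.natDegree ≤ i + 1 := hdeg
  omega

include p in
/-- A single block. -/
theorem bad_block (F₀ : Subfield F) {q₀ : ℕ} {σ : F →+* F} (hσ : ∀ a, σ a = a ^ q₀) (hpa : ∃ a₀, q₀ = p ^ a₀)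
    (hfix : ∀ a, a ∈ F₀ ↔ σ a = a) (hrp : r ≠ p) (hi : 2 ≤ orderOf (Fintype.card F : ZMod r))
    (hin : orderOf (Fintype.card F : ZMod r) ≤ n) (hout : ∀ l, (q₀ : ZMod r) ≠ (Fintype.card F : ZMod r) ^ l) :
    SubBad F₀ n r := by
  classical
  have hrP : r.Prime := Fact.out
  set q := Fintype.card F with hq
  obtain ⟨x, hx1, hx2, ⟨P0, hP0, hdeg, hann⟩, -⟩ :=
    CfsgLib.MaxSub.Elusive.exists_blocks_element (F := F) (p := p) (n := n) (s := 1) hrP hrp hi le_rfl (by rw [one_mul]; exact hin)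
  rw [Matrix.SpecialLinearGroup.coe_pow] at hx1
  set M : Mn := (x : Mn) with hM
  have hpow : M ^ r = 1 := by rw [hx1, one_smul]
  have hann' : aeval M P0 = 0 := Matrix.toLinAlgEquiv'.injective (by
    rw [map_zero, ← hann]; exact (Polynomial.aeval_algHom_apply Matrix.toLinAlgEquiv'.toAlgHom M P0).symm)
  have hq1 : ¬ r ∣ q - 1 := fun hd => by
    have h3 : (q : ZMod r) = 1 := by
      have := (ZMod.natCast_eq_zero_iff _ _).mpr hd
      rwa [Nat.cast_sub Fintype.card_pos, Nat.cast_one, sub_eq_zero] at this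
    rw [h3, orderOf_one] at hi
    omega
  obtain ⟨a₀, ha₀⟩ := hpa
  have hqr0 : (q₀ : ZMod r) ≠ 0 := fun h => by
    have h1 := (ZMod.natCast_eq_zero_iff _ r).mp h
    rw [ha₀] at h1
    exact hrp ((Nat.prime_dvd_prime_iff_eq hrP Fact.out).mp (hrP.dvd_of_dvd_pow h1))
  refine bad_of F₀ hfix (by omega) M x.2 (z := 1) hx1 fun P δ hP _ hz hrel => ?_
  rw [map_one, mul_one] at hz
  rw [CfsgLib.MaxSub.Elusive.root_unity_one hrP hq1 hz.symm, one_smul] at hrel
  have hMnt : Nontrivial Mn := ⟨⟨M, 1, fun h => hx2 1 (h.trans (one_smul F 1).symm)⟩⟩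
  -- the twisted minimal polynomial kills the element
  have hσP : aeval (M.map σ) ((minpoly F M).map σ) = 0 := by
    have h1 := Polynomial.hom_eval₂ (minpoly F M) (algebraMap F Mn) σ.mapMatrix M
    rw [show eval₂ (algebraMap F Mn) M (minpoly F M) = 0 from minpoly.aeval F M, map_zero] at h1
    rw [aeval_def, eval₂_map]
    refine Eq.trans ?_ h1.symm
    congr 1
    ext a i j
    simp [Matrix.algebraMap_matrix_apply, apply_ite σ]
  have hN0 : aeval M ((minpoly F M).map σ) = 0 := by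
    have h1 := CfsgLib.UnitSLElusive.aeval_semiconj hrel.symm ((minpoly F M).map σ)
    rw [hσP, zero_mul] at h1
    have hu : IsUnit P.det := isUnit_iff_ne_zero.mpr hP
    rw [← one_mul (aeval M ((minpoly F M).map σ)), ← Matrix.nonsing_inv_mul P hu, mul_assoc, h1, mul_zero]
  have hdvd := minpoly.dvd F M hN0
  set a := ((q₀ : ZMod r)⁻¹).val with ha
  have hacast : (a : ZMod r) = (q₀ : ZMod r)⁻¹ := ZMod.natCast_rightInverse _
  have hqne : (q : ZMod r) ≠ 0 := fun h => by rw [h, orderOf_zero] at hi; omega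
  refine two_orbits_absurd (p := p) hrp M hpow hx2 hP0 hdeg hann' hi (a := a) (by rw [hacast]; exact inv_ne_zero hqr0)
    (fun l m h => ?_) (fun ω hωr hω => ?_)
  · obtain ⟨i', hi'⟩ : ∃ i', orderOf (q : ZMod r) = i' + 1 := ⟨orderOf (q : ZMod r) - 1, by omega⟩
    refine hout (l + i' * m) ?_
    have h1 : (q : ZMod r) ^ l = (q₀ : ZMod r) * (q : ZMod r) ^ m := by
      rw [← h, hacast, ← mul_assoc, mul_inv_cancel₀ hqr0, one_mul]
    refine mul_right_cancel₀ (pow_ne_zero m hqne) ?_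
    rw [← h1, ← pow_add, show l + i' * m + m = l + (i' + 1) * m by ring, pow_add, pow_mul, ← hi', pow_orderOf_eq_one,
      one_pow, mul_one]
  · let L := AlgebraicClosure F
    have : CharP L p := charP_of_injective_algebraMap (algebraMap F L).injective p
    refine eq_zero_of_pow_eq_zero (n := q₀) ?_
    obtain ⟨R, hR⟩ := hdvd
    have h1 := congrArg (aeval ω) hR
    rw [map_mul, hω, zero_mul] at h1
    have h2 := Polynomial.hom_eval₂ (minpoly F M) (algebraMap F L) (iterateFrobenius L p a₀) (ω ^ a)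
    rw [iterateFrobenius_def, iterateFrobenius_def, ← ha₀] at h2
    have h3 : (ω ^ a) ^ q₀ = ω := by
      rw [← pow_mul, pow_eq_pow_mod _ hωr]
      conv_rhs => rw [← pow_one ω]
      rw [(ZMod.natCast_eq_natCast_iff' (a * q₀) 1 r).mp (by rw [Nat.cast_mul, hacast, inv_mul_cancel₀ hqr0, Nat.cast_one]),
        Nat.one_mod_eq_one.mpr hrP.ne_one]
    rw [h3] at h2
    rw [aeval_def, eval₂_map] at h1
    rw [aeval_def]
    refine h2.trans ?_
    refine Eq.trans ?_ h1
    congr 1
    refine RingHom.ext fun c => ?_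
    show iterateFrobenius L p a₀ (algebraMap F L c) = algebraMap F L (σ c)
    rw [iterateFrobenius_def, ← ha₀, hσ, map_pow]

/-- With an inverting twist, rational conjugates are similarities. -/
theorem no_twist_of_no_sim {σ : F →+* F} {M : Mn} {e : ℕ} (hM : M.map σ = M ^ e) (he : M ^ (e + 1) = 1) (hs : M.IsSymm)
    (hno : ∀ G : Mn, G.det ≠ 0 → ¬ CfsgLib.OrthSLElusive.Sim G M) (P : Mn) (δ : F) (hP : P.det ≠ 0) (hδ : δ ≠ 0) :
    M.map σ * P ≠ δ • (P * M) := fun h => hno P hP ⟨δ⁻¹, by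
  have h1 := congrArg (M * ·) h
  simp only [Matrix.mul_smul] at h1
  rw [hM, ← mul_assoc, ← pow_succ', he, one_mul] at h1
  rw [hs.eq, mul_assoc]
  conv_rhs => rw [h1]
  rw [smul_smul, inv_mul_cancel₀ hδ, one_smul]⟩

end CfsgLib.SubfieldElusive
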