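/-
Elements of odd prime order with conjugates in a subfield subgroup.
-/
import Cfsg.Agent.Lib.SubfieldElusive.Negative
import Cfsg.Agent.Lib.OrthSLElusive.Positive
import Cfsg.Agent.Lib.CentralizerDet
import Cfsg.Agent.Lib.PSLn.Descent
import Cfsg.Agent.Lib.PrimeIso.Basic

set_option autoImplicit false
set_option linter.unusedSectionVars false

namespace CfsgLib.SubfieldElusive

open Polynomial Matrix Module

universe u

variable {F : Type u} [Field F] [Fintype F] {n : ℕ} {p r : ℕ} [Fact p.Prime] [CharP F p] [Fact r.Prime]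

local notation "Mn" => Matrix (Fin n) (Fin n) F
local notation "SLn" => Matrix.SpecialLinearGroup (Fin n) F

/-- An element with three eigenvalues. -/
theorem bad_triple (F₀ : Subfield F) {q₀ k : ℕ} {σ : F →+* F} (hσ : ∀ a, σ a = a ^ q₀) (hfix : ∀ a, a ∈ F₀ ↔ σ a = a)
    (hn : 2 ≤ n) (hk : k.Prime) (hk2 : k ≠ 2) (hq1 : r ∣ Fintype.card F - 1) (hqk : (q₀ : ZMod r) ^ k = 1)
    (hq0 : (q₀ : ZMod r) ≠ 1) : SubBad F₀ n r := by
  classical
  have hr : r.Prime := Fact.out
  set a : ZMod r := (q₀ : ZMod r)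
  have hord : orderOf a = k := by
    have := Fact.mk hk
    exact orderOf_eq_prime hqk hq0
  have ha0 : a ≠ 0 := fun h => by
    rw [h, zero_pow hk.ne_zero] at hqk
    exact zero_ne_one hqk
  have hkr : k ∣ r - 1 := hord ▸ orderOf_dvd_of_pow_eq_one (ZMod.pow_card_sub_one_eq_one ha0)
  have hk3 : 3 ≤ k := by have := hk.two_le; omega
  have hsmall : ∀ m : ℕ, m.Prime → m ≠ 3 ∨ k ≠ 2 → m ≤ 5 → (m : ZMod r) ≠ 0 := fun m hm _ hm5 h0 => by
    have hmr := (Nat.prime_dvd_prime_iff_eq hr hm).mp ((ZMod.natCast_eq_zero_iff m r).mp h0)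
    subst hmr
    have := Nat.le_of_dvd (by have := hm.two_le; omega) hkr
    interval_cases r <;> interval_cases k <;> simp_all (config := { decide := true })
  have h2 : (2 : ZMod r) ≠ 0 := by exact_mod_cast hsmall 2 Nat.prime_two (Or.inr hk2) (by norm_num)
  have h3 : (3 : ZMod r) ≠ 0 := by exact_mod_cast hsmall 3 Nat.prime_three (Or.inr hk2) (by norm_num)
  have h5 : (5 : ZMod r) ≠ 0 := by exact_mod_cast hsmall 5 (by norm_num) (Or.inr hk2) (by norm_num)
  have hsq : a ≠ -1 := fun h => by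
    rw [h, (hk.odd_of_ne_two hk2).neg_one_pow, eq_comm, eq_neg_iff_add_eq_zero, one_add_one_eq_two] at hqk
    exact h2 hqk
  obtain ⟨ζu, hζu⟩ := CfsgLib.OrthSLElusive.exists_unit_order (F := F) hq1
  set ζ : F := (ζu : F)
  have hζ : IsPrimitiveRoot ζ r := IsPrimitiveRoot.coe_units_iff.mpr (hζu ▸ IsPrimitiveRoot.orderOf ζu)
  have hpeq : ∀ b c : ℕ, ζ ^ b = ζ ^ c ↔ (b : ZMod r) = (c : ZMod r) := fun b c => by
    rw [ZMod.natCast_eq_natCast_iff', pow_eq_pow_mod b hζ.pow_eq_one, pow_eq_pow_mod c hζ.pow_eq_one]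
    exact ⟨fun h => hζ.pow_inj (Nat.mod_lt _ hr.pos) (Nat.mod_lt _ hr.pos) h, fun h => by rw [h]⟩
  let e : Fin n → ℕ := fun b => if (b : ℕ) = 0 then 1 else if (b : ℕ) = 1 then r - 1 else 0
  have hval : ∀ b, (e b : ZMod r) = 1 ∨ (e b : ZMod r) = -1 ∨ ((e b : ZMod r) = 0 ∧ 2 ≤ (b : ℕ)) := fun b => by
    simp only [e]
    split_ifs
    · exact Or.inl Nat.cast_one
    · exact Or.inr (Or.inl (by rw [Nat.cast_sub hr.one_le, ZMod.natCast_self, Nat.cast_one, zero_sub]))
    · exact Or.inr (Or.inr ⟨Nat.cast_zero, by omega⟩)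
  let d : Fin n → F := fun b => ζ ^ e b
  have hdet : (Matrix.diagonal d).det = 1 := by
    rw [det_diagonal, Finset.prod_pow_eq_pow_sum, Fin.sum_univ_eq_sum_range (fun j => if j = 0 then 1 else if j = 1 then r - 1 else 0),
      show n = 2 + (n - 2) by omega, Finset.sum_range_add,
      Finset.sum_eq_zero (fun j _ => by rw [if_neg (by omega), if_neg (by omega)] : ∀ j ∈ Finset.range (n - 2),
        (if 2 + j = 0 then 1 else if 2 + j = 1 then r - 1 else 0) = 0),
      show ∑ j ∈ Finset.range 2, (if j = 0 then 1 else if j = 1 then r - 1 else 0) = r by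
        simp [Finset.sum_range_succ]; have := hr.two_le; omega,
      add_zero, hζ.pow_eq_one]
  have hpow : (Matrix.diagonal d) ^ r = 1 := by
    rw [Matrix.diagonal_pow, ← Matrix.diagonal_one]
    congr 1
    funext b
    show d b ^ r = 1
    rw [← pow_mul, mul_comm, pow_mul, hζ.pow_eq_one, one_pow]
  refine bad_of F₀ hfix (by omega) (Matrix.diagonal d) hdet (z := 1) (by rw [hpow, one_smul]) fun P δ hP hδ hz hrel => ?_
  have : NeZero r := ⟨hr.ne_zero⟩
  rw [map_one, mul_one] at hz
  obtain ⟨s, -, hs⟩ := hζ.eq_pow_of_pow_eq_one hz.symm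
  have hstep : ∀ b, ∃ c, a * (e c : ZMod r) = (s : ZMod r) + (e b : ZMod r) := fun b => by
    obtain ⟨c, hc⟩ : ∃ c, P c b ≠ 0 := by
      by_contra hno
      push Not at hno
      exact hP (Matrix.det_eq_zero_of_column_eq_zero b hno)
    refine ⟨c, ?_⟩
    have h1 := congrFun (congrFun hrel c) b
    rw [Matrix.diagonal_map (map_zero σ), Matrix.diagonal_mul, Matrix.smul_apply, Matrix.mul_diagonal, smul_eq_mul,
      mul_comm (P c b), ← mul_assoc] at h1
    have h2' := mul_right_cancel₀ hc h1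
    simp only [d, hσ, ← hs] at h2'
    rw [← pow_mul, ← pow_add, hpeq, Nat.cast_mul, Nat.cast_add] at h2'
    rw [mul_comm]
    exact h2'
  obtain ⟨c1, hc1⟩ := hstep ⟨0, by omega⟩
  obtain ⟨c2, hc2⟩ := hstep ⟨1, by omega⟩
  have e0 : (e (⟨0, by omega⟩ : Fin n) : ZMod r) = 1 := by simp [e]
  have e1 : (e (⟨1, by omega⟩ : Fin n) : ZMod r) = -1 := by
    simp [e, Nat.cast_sub hr.one_le]
  rw [e0] at hc1
  rw [e1] at hc2
  have hD : a * ((e c1 : ZMod r) - (e c2 : ZMod r)) = 2 := by linear_combination hc1 - hc2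
  by_cases h0 : ∃ c : Fin n, (e c : ZMod r) = 0
  · obtain ⟨c0, hc0⟩ := h0
    obtain ⟨c3, hc3⟩ := hstep c0
    rw [hc0, add_zero] at hc3
    have hE : a * ((e c1 : ZMod r) - (e c3 : ZMod r)) = 1 := by linear_combination hc1 - hc3
    have hkey : (e c1 : ZMod r) - (e c2 : ZMod r) = 2 * ((e c1 : ZMod r) - (e c3 : ZMod r)) :=
      mul_left_cancel₀ ha0 (by linear_combination hD - 2 * hE)
    rcases hval c1 with h | h | ⟨h, -⟩ <;> rcases hval c2 with h' | h' | ⟨h', -⟩ <;>
      rcases hval c3 with h'' | h'' | ⟨h'', -⟩ <;> rw [h, h'] at hkey hD <;> rw [h''] at hkey <;>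
      first
        | exact one_ne_zero (α := ZMod r) (by linear_combination hkey)
        | exact one_ne_zero (α := ZMod r) (by linear_combination -hkey)
        | exact h2 (by linear_combination hkey)
        | exact h2 (by linear_combination -hkey)
        | exact h3 (by linear_combination hkey)
        | exact h3 (by linear_combination -hkey)
        | exact h5 (by linear_combination hkey)
        | exact h5 (by linear_combination -hkey)
        | exact h2 (by linear_combination -hD)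
        | exact hq0 (mul_right_cancel₀ h2 (by linear_combination hD))
        | exact hsq (mul_right_cancel₀ h2 (by linear_combination -hD))
  · push Not at h0
    rcases hval c1 with h | h | ⟨h, -⟩
    · rcases hval c2 with h' | h' | ⟨h', -⟩
      · exact h2 (by rw [h, h'] at hD; linear_combination -hD)
      · exact hq0 (mul_right_cancel₀ h2 (by rw [h, h'] at hD; linear_combination hD))
      · exact h0 _ h'
    · rcases hval c2 with h' | h' | ⟨h', -⟩
      · exact hsq (mul_right_cancel₀ h2 (by rw [h, h'] at hD; linear_combination -hD))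
      · exact h2 (by rw [h, h'] at hD; linear_combination -hD)
      · exact h0 _ h'
    · exact h0 _ h

include p in
/-- With `q ≡ q₀` modulo `r` every monic factor of `X ^ r - 1` is defined over the subfield. -/
theorem coeff_mem (F₀ : Subfield F) {q₀ : ℕ} {σ : F →+* F} (hσ : ∀ a, σ a = a ^ q₀) (hpa : ∃ a₀, q₀ = p ^ a₀)
    (hfix : ∀ a, a ∈ F₀ ↔ σ a = a) (hrp : r ≠ p) (hcast : (Fintype.card F : ZMod r) = (q₀ : ZMod r))
    {P : F[X]} (hPm : P.Monic) (hPX : P ∣ X ^ r - C 1) (l : ℕ) : P.coeff l ∈ F₀ := by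
  classical
  have hrP : r.Prime := Fact.out
  obtain ⟨a₀, ha₀⟩ := hpa
  let L := AlgebraicClosure F
  have : CharP L p := charP_of_injective_algebraMap (algebraMap F L).injective p
  have hsepX : (X ^ r - C (1 : F)).Separable := separable_X_pow_sub_C _ (fun h => hrp (((Nat.prime_dvd_prime_iff_eq
    Fact.out hrP).mp ((CharP.cast_eq_zero_iff F p r).mp h)).symm)) one_ne_zero
  have hcard : Fintype.card (P.rootSet L) = P.natDegree :=
    card_rootSet_eq_natDegree (hsepX.of_dvd hPX) (IsAlgClosed.splits _)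
  suffices P.map σ = P by
    rw [hfix]
    conv_rhs => rw [← this, coeff_map]
  by_contra hne
  set D := P.map σ - P with hD
  have hdeg : D.natDegree < P.natDegree := by
    have hd0 : P.natDegree ≠ 0 := fun h => hne (by rw [hPm.natDegree_eq_zero.mp h, Polynomial.map_one])
    refine (natDegree_lt_iff_degree_lt (sub_ne_zero.mpr hne)).mpr ?_
    refine lt_of_lt_of_le (degree_sub_lt_left (by rw [degree_map]) (by simpa using hPm.ne_zero)
      (by rw [leadingCoeff_map, hPm.leadingCoeff, map_one])) ?_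
    rw [degree_map, degree_eq_natDegree hPm.ne_zero]
  let Φ : P.rootSet L → L := fun y => y.1 ^ Fintype.card F
  have hroots : ∀ y : P.rootSet L, aeval (Φ y) D = 0 := fun y => by
    have hy := (mem_rootSet.mp y.2).2
    have hyr : y.1 ^ r = 1 := by
      obtain ⟨R, hR⟩ := hPX
      have := congrArg (aeval y.1) hR
      rwa [map_mul, hy, zero_mul, map_sub, map_pow, aeval_X, aeval_C, map_one, sub_eq_zero] at this
    have h1 : aeval (Φ y) P = 0 := by
      rw [← expand_aeval, FiniteField.expand_card, map_pow, hy, zero_pow Fintype.card_ne_zero]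
    have h2 : aeval (y.1 ^ q₀) (P.map σ) = 0 := by
      have h3 := Polynomial.hom_eval₂ P (algebraMap F L) (iterateFrobenius L p a₀) y.1
      rw [iterateFrobenius_def, iterateFrobenius_def, ← ha₀] at h3
      rw [aeval_def, eval₂_map]
      refine Eq.trans ?_ (h3.symm.trans (by rw [← aeval_def, hy, zero_pow]; rw [ha₀]; exact pow_ne_zero _ (Fact.out : p.Prime).ne_zero))
      congr 1
      refine RingHom.ext fun c => ?_
      show algebraMap F L (σ c) = iterateFrobenius L p a₀ (algebraMap F L c)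
      rw [iterateFrobenius_def, ← ha₀, hσ, map_pow]
    have h4 : Φ y = y.1 ^ q₀ := by
      show y.1 ^ Fintype.card F = y.1 ^ q₀
      rw [pow_eq_pow_mod _ hyr, pow_eq_pow_mod q₀ hyr, (ZMod.natCast_eq_natCast_iff' _ _ _).mp hcast]
    rw [hD, map_sub, h1, h4, h2, sub_zero]
  have hinj : Function.Injective Φ := fun y y' h => Subtype.ext (by
    obtain ⟨d, hp', hd⟩ := FiniteField.card F p
    refine iterateFrobenius_inj L p d ?_
    rw [iterateFrobenius_def, iterateFrobenius_def, ← hd]
    exact h)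
  have h0 : D.map (algebraMap F L) = 0 := eq_zero_of_natDegree_lt_card_of_eval_eq_zero _ hinj
    (fun y => by rw [eval_map, ← aeval_def]; exact hroots y) (by rw [natDegree_map, hcard]; exact hdeg)
  exact hne (sub_eq_zero.mp ((Polynomial.map_eq_zero _).mp h0))

/-- A basis in which a periodic map is rational. -/
theorem exists_rational (F₀ : Subfield F) {V : Type u} [AddCommGroup V] [Module F V] [FiniteDimensional F V]
    (T : Module.End F V) (hT : T ^ r = 1) (hss : T.IsSemisimple)
    (hfac : ∀ P : F[X], P.Monic → P ∣ X ^ r - C 1 → ∀ l, P.coeff l ∈ F₀) :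
    ∀ (m : ℕ) (W : Submodule F V), finrank F W = m → (∀ w ∈ W, T w ∈ W) →
      ∃ (ι : Type) (_ : Fintype ι) (v : ι → V), Fintype.card ι = m ∧ Submodule.span F (Set.range v) = W ∧
        ∀ j, ∃ M : ι → F, (∀ l, M l ∈ F₀) ∧ T (v j) = ∑ l, M l • v l := by
  classical
  have hrP : r.Prime := Fact.out
  intro m
  induction m using Nat.strong_induction_on with
  | _ m IH =>
    intro W hm hW
    rcases Nat.eq_zero_or_pos m with rfl | hpos
    · refine ⟨Fin 0, inferInstance, Fin.elim0, rfl, ?_, fun j => j.elim0⟩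
      rw [Submodule.finrank_eq_zero.mp hm, Set.range_eq_empty, Submodule.span_empty]
    obtain ⟨x, hxW, hx0⟩ := W.exists_mem_ne_zero_of_ne_bot (fun h => by rw [h, finrank_bot] at hm; omega)
    let I : Ideal F[X] :=
      { carrier := {P | aeval T P x = 0}
        add_mem' := fun {a b} ha hb => by
          show aeval T (a + b) x = 0
          rw [map_add, LinearMap.add_apply, show aeval T a x = 0 from ha, show aeval T b x = 0 from hb, add_zero]
        zero_mem' := by show aeval T (0 : F[X]) x = 0; rw [map_zero, LinearMap.zero_apply]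
        smul_mem' := fun c a ha => by
          show aeval T (c * a) x = 0
          rw [map_mul, Module.End.mul_apply, show aeval T a x = 0 from ha, map_zero] }
    have hXI : X ^ r - C 1 ∈ I := by
      show aeval T (X ^ r - C 1) x = 0
      rw [map_sub, map_pow, aeval_X, aeval_C, map_one, hT, sub_self, LinearMap.zero_apply]
    set g := Submodule.IsPrincipal.generator I
    have hgI : g ∈ I := Submodule.IsPrincipal.generator_mem I
    have hg0 : g ≠ 0 := fun h => by
      have h1 := hXI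
      rw [(Submodule.IsPrincipal.eq_bot_iff_generator_eq_zero I).mpr h, Submodule.mem_bot] at h1
      exact X_pow_sub_C_ne_zero hrP.pos (1 : F) h1
    set P := g * C g.leadingCoeff⁻¹
    have hPm : P.Monic := monic_mul_leadingCoeff_inv hg0
    have hPI : P ∈ I := I.mul_mem_right _ hgI
    have hdvd : ∀ R ∈ I, P ∣ R := fun R hR =>
      (associated_mul_unit_right g _ (isUnit_C.mpr (isUnit_iff_ne_zero.mpr (inv_ne_zero (leadingCoeff_ne_zero.mpr hg0))))).symm.dvd.trans
        ((Submodule.IsPrincipal.mem_iff_generator_dvd I).mp hR)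
    have hPF : ∀ l, P.coeff l ∈ F₀ := hfac P hPm (hdvd _ hXI)
    set d := P.natDegree
    let u : Fin d → V := fun l => (T ^ (l : ℕ)) x
    have hu : LinearIndependent F u := Fintype.linearIndependent_iff.mpr fun c hc l => by
      set R : F[X] := ∑ l : Fin d, C (c l) * X ^ (l : ℕ)
      have hRI : R ∈ I := by
        show aeval T R x = 0
        rw [map_sum, LinearMap.sum_apply, ← hc]
        refine Finset.sum_congr rfl fun l _ => ?_
        rw [map_mul, aeval_C, map_pow, aeval_X, Module.End.mul_apply, Module.algebraMap_end_apply]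
      have hRd : R = 0 := Polynomial.eq_zero_of_dvd_of_degree_lt (hdvd R hRI) (by
        rw [degree_eq_natDegree hPm.ne_zero]
        exact degree_sum_fin_lt c)
      have := congrArg (fun Q => Polynomial.coeff Q (l : ℕ)) hRd
      simpa [R, finsetSum_coeff, coeff_C_mul, coeff_X_pow, Fin.val_inj] using this
    set U := Submodule.span F (Set.range u)
    have hrel : (T ^ d) x = ∑ l : Fin d, (-P.coeff l) • u l := by
      have h1 : aeval T P x = 0 := hPI
      rw [aeval_eq_sum_range, Finset.sum_range_succ, LinearMap.add_apply, hPm.coeff_natDegree, one_smul,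
        LinearMap.sum_apply, ← Fin.sum_univ_eq_sum_range (fun l => (P.coeff l • T ^ l) x)] at h1
      rw [eq_neg_of_add_eq_zero_right h1, ← Finset.sum_neg_distrib]
      exact Finset.sum_congr rfl fun l _ => (neg_smul _ _).symm
    have hTu : ∀ l, ∃ M : Fin d → F, (∀ l', M l' ∈ F₀) ∧ T (u l) = ∑ l', M l' • u l' := fun l => by
      by_cases h : (l : ℕ) + 1 < d
      · refine ⟨fun l' => if l' = ⟨(l : ℕ) + 1, h⟩ then 1 else 0, fun l' => by show (if l' = _ then (1 : F) else 0) ∈ F₀; split_ifs <;> simp [one_mem, zero_mem], ?_⟩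
        simp [u, ite_smul, ← Module.End.mul_apply, ← pow_succ']
      · refine ⟨fun l' => -P.coeff l', fun l' => neg_mem (hPF _), ?_⟩
        rw [← hrel, show d = (l : ℕ) + 1 by omega, pow_succ']
        rfl
    have hUW : U ≤ W := Submodule.span_le.mpr (by
      rintro _ ⟨l, rfl⟩
      exact CfsgLib.PrimeIso.Inv.pow hW l x hxW)
    have hUT : U ∈ Module.End.invtSubmodule T := (Module.End.mem_invtSubmodule T).mpr (Submodule.span_le.mpr (by
      rintro _ ⟨l, rfl⟩
      obtain ⟨M, -, hM⟩ := hTu l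
      show T (u l) ∈ U
      rw [hM]
      exact Submodule.sum_mem _ fun l' _ => U.smul_mem _ (Submodule.subset_span ⟨l', rfl⟩)))
    obtain ⟨C', hC', hC⟩ := (Module.End.isSemisimple_iff.mp hss) U hUT
    set W' := C' ⊓ W
    have hsup : U ⊔ W' = W := by
      show U ⊔ C' ⊓ W = W
      rw [← sup_inf_assoc_of_le C' hUW, hC.sup_eq_top, top_inf_eq]
    have hdim : finrank F U + finrank F W' = m := by
      have h1 := Submodule.finrank_sup_add_finrank_inf_eq U W'
      rw [hsup, (le_bot_iff.mp ((inf_le_inf_left U inf_le_left).trans hC.inf_eq_bot.le) : U ⊓ W' = ⊥), finrank_bot,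
        add_zero, hm] at h1
      exact h1.symm
    have hUd : finrank F U = d := by rw [finrank_span_eq_card hu, Fintype.card_fin]
    have hd0 : 0 < d := Nat.pos_of_ne_zero fun h => hx0 (by
      have h1 : aeval T P x = 0 := hPI
      rwa [hPm.natDegree_eq_zero.mp h, map_one, Module.End.one_apply] at h1)
    obtain ⟨ι, hι, v, hcard, hspan, hv⟩ := IH (finrank F W') (by omega) W' rfl
      (fun w hw => ⟨(Module.End.mem_invtSubmodule T).mp hC' hw.1, hW w hw.2⟩)
    refine ⟨Fin d ⊕ ι, inferInstance, Sum.elim u v, by rw [Fintype.card_sum, Fintype.card_fin]; omega, ?_, ?_⟩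
    · rw [Set.Sum.elim_range, Submodule.span_union, hspan, hsup]
    · rintro (l | j)
      · obtain ⟨M, hM, hMu⟩ := hTu l
        refine ⟨Sum.elim M 0, by rintro (l' | j') <;> simp [hM, zero_mem], ?_⟩
        simp [hMu, Fintype.sum_sum_type]
      · obtain ⟨M, hM, hMv⟩ := hv j
        refine ⟨Sum.elim 0 M, by rintro (l' | j') <;> simp [hM, zero_mem], ?_⟩
        simp [hMv, Fintype.sum_sum_type]

theorem semisimple_of_pow (hrp : r ≠ p) (T : Module.End F (Fin n → F)) {z : F} (hz : z ≠ 0) (hT : T ^ r = z • 1) :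
    T.IsSemisimple := by
  have hsep : (X ^ r - C z).Separable := separable_X_pow_sub_C _ (fun h => hrp (((Nat.prime_dvd_prime_iff_eq
    Fact.out (Fact.out : r.Prime)).mp ((CharP.cast_eq_zero_iff F p r).mp h)).symm)) hz
  refine Module.End.isSemisimple_of_squarefree_aeval_eq_zero hsep.squarefree ?_
  rw [map_sub, map_pow, aeval_X, aeval_C, hT, Algebra.algebraMap_eq_smul_one, sub_self]

include p in
theorem exists_centralizer_det (hn : 0 < n) (hrp : r ≠ p) (T : Module.End F (Fin n → F)) {z : F} (hz : z ≠ 0)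
    (hT : T ^ r = z • 1) (δ : F) (hδ : δ ≠ 0) :
    ∃ S : Module.End F (Fin n → F), S * T = T * S ∧ LinearMap.det S = δ := by
  have : Nonempty (Fin n) := ⟨⟨0, hn⟩⟩
  obtain ⟨S, hS, hd⟩ := CfsgLib.CentralizerDet.exists_det_of_semisimple T (semisimple_of_pow (p := p) hrp T hz hT) (Units.mk0 δ hδ)
  exact ⟨S, hS.eq, hd⟩

include p in
/-- The case where the degree of the extension is the order. -/
theorem pos_degree (F₀ : Subfield F) {q₀ : ℕ} {σ : F →+* F} (hσ : ∀ a, σ a = a ^ q₀) (hpa : ∃ a₀, q₀ = p ^ a₀)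
    (hfix : ∀ a, a ∈ F₀ ↔ σ a = a) (hn : 0 < n) (hr2 : r ≠ 2) (hrp : r ≠ p) (hqk : Fintype.card F = q₀ ^ r)
    (hgap : r ∣ q₀ - 1 → padicValNat r n ≤ padicValNat r (Fintype.card F - 1))
    (x : SLn) {z : F} (hx : ((x ^ r : SLn) : Mn) = z • 1) : ∃ P : SLn, P⁻¹ * x * P ∈ Hsub F₀ := by
  classical
  have hr : r.Prime := Fact.out
  have : Nonempty (Fin n) := ⟨⟨0, hn⟩⟩
  have hcast : (Fintype.card F : ZMod r) = (q₀ : ZMod r) := by rw [hqk, Nat.cast_pow, ZMod.pow_card]
  have hz0 : z ≠ 0 := fun h => by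
    have h1 := congrArg Matrix.det hx
    rw [h, zero_smul, det_zero, (x ^ r).2] at h1
    exact one_ne_zero h1
  set T := Matrix.toLinAlgEquiv' (x : Mn) with hTdef
  have hT : T ^ r = z • 1 := CfsgLib.MaxSub.Elusive.pow_scalar r hx
  obtain ⟨s, hs⟩ : ∃ s : F, s ^ r = z := by
    by_cases hd : r ∣ Fintype.card F - 1
    · by_contra hno
      push Not at hno
      have hd0 : r ∣ q₀ - 1 := by
        rw [← ZMod.natCast_eq_zero_iff, Nat.cast_sub Fintype.card_pos, hcast] at hd
        have hq0 : 1 ≤ q₀ := Nat.one_le_iff_ne_zero.mpr fun h => by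
          have := hqk ▸ Fintype.card_ne_zero (α := F)
          rw [h, zero_pow hr.ne_zero] at this
          exact this rfl
        rw [← ZMod.natCast_eq_zero_iff, Nat.cast_sub hq0]
        exact hd
      obtain ⟨hrn, hdet, -⟩ := CfsgLib.MaxSub.Elusive.twisted_dims hr T hno hT
      have h1 : LinearMap.det T = 1 := by
        show LinearMap.det (Matrix.toLin' (x : Mn)) = 1
        rw [LinearMap.det_toLin', x.2]
      rw [h1, (hr.odd_of_ne_two hr2).neg_one_pow, neg_one_mul, neg_neg] at hdet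
      have hle := CfsgLib.MaxSub.Elusive.factor_le_of_not_pow hz0 hno hr
        (k := n / r) (Nat.div_ne_zero_iff_of_dvd hrn |>.mpr ⟨by omega, hr.ne_zero⟩) hdet.symm
      rw [padicValNat.div hrn] at hle
      have h2 := one_le_padicValNat_of_dvd (by omega : n ≠ 0) hrn
      have := hgap hd0
      omega
    · have hcop : Nat.Coprime (Nat.card Fˣ) r := by
        rw [Nat.card_units, Nat.card_eq_fintype_card, Nat.coprime_comm, hr.coprime_iff_not_dvd]
        exact hd
      refine ⟨((powCoprime hcop).symm (Units.mk0 z hz0) : Fˣ), ?_⟩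
      rw [← Units.val_pow_eq_pow_val]
      exact congrArg Units.val ((powCoprime hcop).apply_symm_apply (Units.mk0 z hz0))
  have hs0 : s ≠ 0 := fun h => hz0 (by rw [← hs, h, zero_pow hr.ne_zero])
  set U := s⁻¹ • T with hUdef
  have hU : U ^ r = 1 := by rw [hUdef, _root_.smul_pow, hT, smul_smul, inv_pow, hs, inv_mul_cancel₀ hz0, one_smul]
  obtain ⟨ι, hι, v, hcard, hspan, hv⟩ := exists_rational F₀ U hU
    (semisimple_of_pow (p := p) hrp U one_ne_zero (by rw [hU, one_smul]))
    (fun P hP hPX l => coeff_mem (p := p) F₀ hσ hpa hfix hrp hcast hP hPX l) _ ⊤ rfl (fun _ _ => Submodule.mem_top)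
  let B : Basis ι F (Fin n → F) := basisOfTopLeSpanOfCardEqFinrank v (le_of_eq hspan.symm) (by rw [hcard, finrank_top])
  choose M hM hMv using hv
  refine CfsgLib.MaxSub.Elusive.mem_of_rational F₀ x B s hs0 (Matrix.of fun i j => M j i) (fun i j => hM _ _) (fun i => ?_)
    (exists_centralizer_det (p := p) hn hrp T hz0 hT)
  have hb : ∀ j, B j = v j := fun j => by simp [B]
  simp only [hb, Matrix.of_apply]
  rw [← hMv, hUdef, LinearMap.smul_apply, smul_smul, mul_inv_cancel₀ hs0, one_smul]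

include p in
/-- The exceptional odd dimensions over a quadratic extension. -/
theorem pos_small (F₀ : Subfield F) {q₀ : ℕ} {σ : F →+* F} (hσ : ∀ a, σ a = a ^ q₀)
    (hfix : ∀ a, a ∈ F₀ ↔ σ a = a) (hrp : r ≠ p) (hqk : Fintype.card F = q₀ ^ 2) (hnr : n = r) (hr : r = 3 ∨ r = 5)
    (hd : r ∣ q₀ + 1) (hd2 : ¬ r ^ 2 ∣ Fintype.card F - 1)
    (x : SLn) {z : F} (hx : ((x ^ r : SLn) : Mn) = z • 1) : ∃ P : SLn, P⁻¹ * x * P ∈ Hsub F₀ := by
  classical
  subst hnr
  have hnP : n.Prime := Fact.out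
  have : NeZero n := ⟨hnP.ne_zero⟩
  have hodd : Odd n := hnP.odd_of_ne_two (by omega)
  have hd1 : n ∣ Fintype.card F - 1 := hd.trans ⟨q₀ - 1, by rw [hqk, ← Nat.sq_sub_sq, one_pow]⟩
  let xu : GL (Fin n) F := Matrix.SpecialLinearGroup.toGL x
  have hxn : (xu : Mn) ^ n = z • 1 := (Matrix.SpecialLinearGroup.coe_pow x n).symm.trans hx
  obtain ⟨ζu, g, k, hζu, hg, hgk, hsum⟩ := CfsgLib.OrthSLElusive.small_eigen hodd hd1 hd2 xu x.2 hxn
  set ζ : F := (ζu : F)
  have hζ : IsPrimitiveRoot ζ n := IsPrimitiveRoot.coe_units_iff.mpr (hζu ▸ IsPrimitiveRoot.orderOf ζu)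
  have hq0cast : (q₀ : ZMod n) = -1 := by
    have h := (ZMod.natCast_eq_zero_iff _ n).mpr hd
    push_cast at h
    exact eq_neg_of_add_eq_zero_left h
  have hpeq : ∀ b c : ℕ, (b : ZMod n) = (c : ZMod n) → ζ ^ b = ζ ^ c := fun b c h => by
    rw [pow_eq_pow_mod b hζ.pow_eq_one, pow_eq_pow_mod c hζ.pow_eq_one, (ZMod.natCast_eq_natCast_iff' b c n).mp h]
  obtain ⟨π, hπ, hπk⟩ := CfsgLib.OrthSLElusive.exists_pairing hr (fun i => (k i : ZMod n)) hsum
  set t := (((k 0 : ZMod n) + (k (π 0) : ZMod n)) * (2 : ZMod n)⁻¹).val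
  have h2 : (2 : ZMod n) ≠ 0 := fun h => by
    have h' := (ZMod.natCast_eq_zero_iff 2 n).mp (by exact_mod_cast h)
    have := Nat.le_of_dvd two_pos h'
    omega
  have htcast : (2 : ZMod n) * (t : ZMod n) = (k 0 : ZMod n) + (k (π 0) : ZMod n) := by
    rw [ZMod.natCast_rightInverse, mul_comm, mul_assoc, inv_mul_cancel₀ h2, mul_one]
  let eU : Fin n → ℕ := fun i => ((k i : ZMod n) - (t : ZMod n)).val
  have heU : ∀ i, (eU i : ZMod n) = (k i : ZMod n) - (t : ZMod n) := fun i => ZMod.natCast_rightInverse _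
  let U : Mn := Matrix.diagonal fun i => ζ ^ eU i
  set lam := ζ ^ t
  have hxU : (x : Mn) * g = lam • (g * U) := by
    rw [← Matrix.mul_smul]
    refine hgk.trans ?_
    congr 1
    rw [← Matrix.diagonal_smul]
    congr 1
    funext i
    rw [Pi.smul_apply, smul_eq_mul, ← pow_add]
    exact hpeq _ _ (by rw [Nat.cast_add, heU]; ring)
  have hσζ : ∀ e : ℕ, σ (ζ ^ e) = ζ ^ (q₀ * e) := fun e => by rw [map_pow, hσ, ← pow_mul]
  set Pm : Mn := (1 : Mn).submatrix id π with hPm
  have hPP : Pm * Pm = 1 := by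
    ext a b
    simp [Pm, Matrix.mul_apply, Matrix.one_apply, hπ b]
  have hPU : Pm * U.map σ * Pm = U := by
    ext a b
    rw [Matrix.diagonal_map (map_zero σ)]
    simp only [Pm, Matrix.mul_apply, Matrix.submatrix_apply, id, Matrix.one_apply, Matrix.diagonal_apply, U]
    simp
    by_cases hab : a = b
    · subst hab
      simp [hπ a]
      rw [hσ, ← pow_mul]
      refine hpeq _ _ ?_
      rw [Nat.cast_mul, hq0cast, heU, heU]
      linear_combination -(hπk a) + htcast
    · simp [hab, hπ b]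
  have hσσ : ∀ a, σ (σ a) = a := fun a => by rw [hσ, hσ, ← pow_mul, ← sq, ← hqk, FiniteField.pow_card]
  let τ : RingAut F := RingEquiv.ofRingHom σ σ (RingHom.ext hσσ) (RingHom.ext hσσ)
  have hτ : orderOf τ = 2 := by
    have : Fact (Nat.Prime 2) := ⟨Nat.prime_two⟩
    refine orderOf_eq_prime ?_ fun e => ?_
    · rw [pow_two]; exact RingEquiv.ext hσσ
    · have h1 : σ ζ = ζ := RingEquiv.congr_fun e ζ
      have h3 := hζ.pow_eq_one_iff_dvd
      rw [hσ] at h1
      have h4 : ζ ^ (q₀ + 1) = 1 := (h3 _).mpr hd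
      have h5 : ζ ^ 2 = 1 := by rw [pow_two]; nth_rw 1 [← h1]; rw [← pow_succ, h4]
      have := Nat.le_of_dvd two_pos ((h3 2).mp h5)
      omega
  let Pu : GL (Fin n) F := ⟨Pm, Pm, hPP, hPP⟩
  have hone : (1 : Mn).map σ = 1 := Matrix.map_one σ (map_zero σ) (map_one σ)
  obtain ⟨h, hh⟩ := CfsgLib.PSLn.exists_descent τ Pu (by
    rw [hτ]
    show Pm * (Pm * (1 : Mn).map σ).map σ = 1
    rw [hone, mul_one]
    have : Pm.map σ = Pm := by ext a b; simp [Pm, Matrix.one_apply, apply_ite σ]
    rw [this, hPP])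
  change Pm * (h : Mn).map σ = (h : Mn) at hh
  have hσh : (h : Mn).map σ = Pm * (h : Mn) := by
    conv_rhs => rw [← hh, ← mul_assoc, hPP, one_mul]
  set hi : Mn := ((h⁻¹ : GL (Fin n) F) : Mn)
  have hhi : (h : Mn) * hi = 1 := Units.mul_inv h
  have hih : hi * (h : Mn) = 1 := Units.inv_mul h
  have hσhi : hi.map σ = hi * Pm := by
    have h1 := congrArg (fun A : Mn => A.map σ) hih
    simp only [Matrix.map_mul, hone, hσh] at h1
    calc hi.map σ = hi.map σ * (Pm * ((h : Mn) * hi) * Pm) := by rw [hhi, mul_one, hPP, mul_one]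
      _ = (hi.map σ * (Pm * (h : Mn))) * (hi * Pm) := by simp only [mul_assoc]
      _ = hi * Pm := by rw [h1, one_mul]
  set y : Mn := hi * U * (h : Mn) with hy
  have hyσ : y.map σ = y := by
    rw [hy, Matrix.map_mul, Matrix.map_mul, hσhi, hσh]
    calc hi * Pm * U.map σ * (Pm * (h : Mn)) = hi * (Pm * U.map σ * Pm) * (h : Mn) := by simp only [mul_assoc]
      _ = _ := by rw [hPU]
  set G : Mn := g * (h : Mn) with hG
  have hG0 : G.det ≠ 0 := by
    rw [det_mul]
    exact mul_ne_zero hg ((Matrix.isUnit_iff_isUnit_det _).mp h.isUnit).ne_zero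
  have hxG : (x : Mn) * G = lam • (G * y) := by
    rw [hG, ← mul_assoc, hxU, Matrix.smul_mul, hy]
    congr 1
    calc g * U * (h : Mn) = g * ((h : Mn) * hi) * U * (h : Mn) := by rw [hhi, mul_one]
      _ = _ := by simp only [mul_assoc]
  let Gu : GL (Fin n) F := Matrix.GeneralLinearGroup.mkOfDetNeZero G hG0
  let φ := Matrix.toLin'OfInv (M := G) (M' := ((Gu⁻¹ : GL (Fin n) F) : Mn)) (Units.mul_inv Gu) (Units.inv_mul Gu)
  let B : Basis (Fin n) F (Fin n → F) := (Pi.basisFun F (Fin n)).map φ.symm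
  have hB : ∀ i, B i = G *ᵥ Pi.single i 1 := fun i => by
    show φ.symm (Pi.basisFun F (Fin n) i) = _
    rw [Pi.basisFun_apply]
    rfl
  have hz0 : z ≠ 0 := fun h0 => by
    have h1 := congrArg Matrix.det hx
    have : Nonempty (Fin n) := ⟨0⟩
    rw [h0, zero_smul, det_zero, (x ^ n).2] at h1
    exact one_ne_zero h1
  refine CfsgLib.MaxSub.Elusive.mem_of_rational F₀ x B lam (pow_ne_zero _ (hζ.ne_zero hnP.ne_zero)) y
    (fun i j => (hfix _).mpr (congrFun (congrFun hyσ i) j)) (fun i => ?_)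
    (exists_centralizer_det (p := p) hnP.pos hrp _ hz0 (CfsgLib.MaxSub.Elusive.pow_scalar n hx))
  rw [Matrix.toLinAlgEquiv'_apply, hB, Matrix.mulVec_mulVec, hxG, Matrix.smul_mulVec]
  congr 1
  simp only [hB, ← Matrix.mulVec_smul, ← Matrix.mulVec_sum, ← Matrix.mulVec_mulVec]
  congr 1
  funext j
  simp [Finset.sum_apply, Pi.single_apply]

end CfsgLib.SubfieldElusive
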